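import Cfsg.Agent.Lib.ZStarApps.TransferParity
import Cfsg.Agent.Lib.Involutions.Dihedral
import Cfsg.Agent.Lib.Transfer.PGroup
import Cfsg.Agent.Lib.Transfer.Abelian
import Mathlib.GroupTheory.Subgroup.Simple

/-!
Simple groups whose Sylow 2-subgroup has all squares in a central subgroup of order two.
-/

set_option autoImplicit false
set_option linter.style.haveILetI false
set_option linter.unusedSectionVars false

namespace Cfsg.Agent.ZStarApps

variable {G : Type*} [Group G] [Finite G]

/-- A simple non-abelian group has no normal subgroup of index two. -/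
theorem no_index_two [IsSimpleGroup G] (hG : ¬ IsMulCommutative G) (N : Subgroup G) (hN : N.Normal)
    (hi : N.index = 2) : False := by
  rcases IsSimpleGroup.eq_bot_or_eq_top_of_normal N hN with h | h
  · haveI : Fact (Nat.Prime 2) := ⟨Nat.prime_two⟩
    rw [h, Subgroup.index_bot] at hi
    haveI : IsCyclic G := isCyclic_of_prime_card (p := 2) hi
    letI : CommGroup G := IsCyclic.commGroup
    exact hG ⟨⟨mul_comm⟩⟩
  · rw [h, Subgroup.index_top] at hi; omega

/-- A simple non-abelian group of even order has no normal 2-complement. -/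
theorem no_two_complement [IsSimpleGroup G] (hG : ¬ IsMulCommutative G) (R : Sylow 2 G)
    (hne : (R : Subgroup G) ≠ ⊥) (h : Cfsg.HasNormalPComplement 2 G) : False := by
  haveI : Fact (Nat.Prime 2) := ⟨Nat.prime_two⟩
  obtain ⟨P, N, hN, hc⟩ := h
  rcases IsSimpleGroup.eq_bot_or_eq_top_of_normal N hN with e | e
  · rw [e] at hc
    have hp : IsPGroup 2 G := by
      have h2 := P.2
      rw [(Subgroup.isComplement'_bot_left.1 hc : (P : Subgroup G) = ⊤)] at h2
      exact h2.of_equiv Subgroup.topEquiv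
    haveI := hp.center_nontrivial
    rcases IsSimpleGroup.eq_bot_or_eq_top_of_normal (Subgroup.center G) inferInstance with e' | e'
    · exact absurd (e' ▸ ‹Nontrivial (Subgroup.center G)›) (by
        rw [Subgroup.nontrivial_iff_ne_bot]; exact fun h => h rfl)
    · exact hG ⟨⟨fun a b => (Subgroup.mem_center_iff.1 (e' ▸ Subgroup.mem_top b) a)⟩⟩
  · rw [e] at hc
    have h1 : Nat.card (R : Subgroup G) = Nat.card (P : Subgroup G) := by
      rw [Sylow.card_eq_multiplicity, Sylow.card_eq_multiplicity]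
    rw [(Subgroup.isComplement'_top_left.1 hc : (P : Subgroup G) = ⊥), Subgroup.card_bot] at h1
    exact hne (Subgroup.eq_bot_of_card_eq _ h1)

theorem dihedral_eight_of_squares [IsSimpleGroup G] (hG : ¬ IsMulCommutative G) (R : Sylow 2 G)
    {z : G} (hzo : orderOf z = 2) (hzR : z ∈ (R : Subgroup G))
    (hzc : ∀ r ∈ (R : Subgroup G), Commute r z)
    (hsq : ∀ a ∈ (R : Subgroup G), a * a = 1 ∨ a * a = z)
    (hnab : ∃ a ∈ (R : Subgroup G), ∃ b ∈ (R : Subgroup G), ¬ Commute a b)
    (hcen : ∀ g : G, g * z * g⁻¹ ∈ (R : Subgroup G) →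
      (∀ r ∈ (R : Subgroup G), Commute r (g * z * g⁻¹)) → g * z * g⁻¹ = z)
    (hT : ∀ g : G, g * z * g⁻¹ ∈ (R : Subgroup G) → g * z * g⁻¹ ≠ z →
      ∀ x ∈ (R : Subgroup G), Commute x (g * z * g⁻¹) → x * x = 1)
    (hN : ∀ x ∈ Subgroup.normalizer ((R : Subgroup G) : Set G), ∀ a ∈ (R : Subgroup G),
      x * a * x⁻¹ * a⁻¹ ∈ Subgroup.closure {y : G | y ∈ (R : Subgroup G) ∧ IsConj z y}) :
    Nonempty ((R : Subgroup G) ≃* DihedralGroup 4) := by
  classical
  haveI : Fact (Nat.Prime 2) := ⟨Nat.prime_two⟩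
  have hz2 : z * z = 1 := by rw [← pow_two, ← hzo]; exact pow_orderOf_eq_one z
  set W := Subgroup.closure {y : G | y ∈ (R : Subgroup G) ∧ IsConj z y} with hW
  have hWR : W ≤ (R : Subgroup G) := (Subgroup.closure_le _).2 fun y hy => hy.1
  have hinv : ∀ a ∈ (R : Subgroup G), a⁻¹ = a ∨ a⁻¹ = a * z := by
    intro a ha
    rcases hsq a ha with h | h
    · exact Or.inl (inv_eq_of_mul_eq_one_right h)
    · exact Or.inr (inv_eq_of_mul_eq_one_right (by rw [← mul_assoc, h, hz2]))
  have hcom : ∀ a ∈ (R : Subgroup G), ∀ b ∈ (R : Subgroup G),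
      a * b * a⁻¹ * b⁻¹ = 1 ∨ a * b * a⁻¹ * b⁻¹ = z := by
    intro a ha b hb
    obtain ⟨i, hi⟩ : ∃ i : ℕ, a * b * a⁻¹ * b⁻¹ = z ^ i := by
      have hab := hsq (a * b) (mul_mem ha hb)
      obtain ⟨i, hi⟩ : ∃ i : ℕ, a * b * (a * b) = z ^ i := by
        rcases hab with h | h
        · exact ⟨0, by rw [h, pow_zero]⟩
        · exact ⟨1, by rw [h, pow_one]⟩
      obtain ⟨j, hj⟩ : ∃ j : ℕ, a⁻¹ = a * z ^ j := by
        rcases hinv a ha with h | h
        · exact ⟨0, by rw [h, pow_zero, mul_one]⟩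
        · exact ⟨1, by rw [h, pow_one]⟩
      obtain ⟨k, hk⟩ : ∃ k : ℕ, b⁻¹ = b * z ^ k := by
        rcases hinv b hb with h | h
        · exact ⟨0, by rw [h, pow_zero, mul_one]⟩
        · exact ⟨1, by rw [h, pow_one]⟩
      refine ⟨i + (j + k), ?_⟩
      have hc : z ^ j * b = b * z ^ j := ((hzc b hb).symm.pow_left j).eq
      rw [hj, hk, pow_add z i, ← hi, pow_add]
      calc a * b * (a * z ^ j) * (b * z ^ k) = a * b * a * (z ^ j * b) * z ^ k := by
            simp only [mul_assoc]
        _ = a * b * (a * b) * (z ^ j * z ^ k) := by rw [hc]; simp only [mul_assoc]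
    rw [hi, ← pow_mod_orderOf, hzo]
    rcases Nat.mod_two_eq_zero_or_one i with e | e <;> rw [e]
    · exact Or.inl (pow_zero z)
    · exact Or.inr (pow_one z)
  have hconj : ∀ a ∈ (R : Subgroup G), ∀ t ∈ (R : Subgroup G), ¬ Commute a t →
      a * t * a⁻¹ = t * z := by
    intro a ha t ht hne
    rcases hcom a ha t ht with h | h
    · exact absurd (mul_inv_eq_iff_eq_mul.1 (mul_inv_eq_one.1 h)) hne
    · rw [mul_inv_eq_iff_eq_mul.1 h, (hzc t ht).eq]
  have hindex : ∀ t ∈ (R : Subgroup G), ∀ r ∈ (R : Subgroup G), ∀ s ∈ (R : Subgroup G),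
      ¬ Commute r t → ¬ Commute s t → Commute (r⁻¹ * s) t := by
    intro t ht r hr s hs h1 h2
    have e1 := hconj r hr t ht h1
    have e2 := hconj s hs t ht h2
    show r⁻¹ * s * t = t * (r⁻¹ * s)
    calc r⁻¹ * s * t = r⁻¹ * (s * t * s⁻¹) * s := by group
      _ = r⁻¹ * (r * t * r⁻¹) * s := by rw [e1, e2]
      _ = t * (r⁻¹ * s) := by group
  -- the conjugates generate
  have hWtop : (R : Subgroup G) ≤ W := by
    by_contra hne
    have hlt : W.subgroupOf (R : Subgroup G) ≠ ⊤ := fun e => hne (Subgroup.subgroupOf_eq_top.1 e)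
    obtain ⟨M', hM', hWM'⟩ := (eq_top_or_exists_le_coatom _).resolve_left hlt
    obtain ⟨-, hMi⟩ := Cfsg.Agent.PGroupBasics.index_of_isCoatom R.2 hM'
    obtain ⟨u, hu⟩ : ∃ u : (R : Subgroup G), u ∉ M' := by
      by_contra h
      push_neg at h
      exact hM'.1 ((Subgroup.eq_top_iff' M').2 h)
    set M := M'.map (R : Subgroup G).subtype with hMdef
    have hMR : M ≤ (R : Subgroup G) := Subgroup.map_subtype_le _
    have hMsub : M.subgroupOf (R : Subgroup G) = M' :=
      Subgroup.comap_map_eq_self_of_injective (R : Subgroup G).subtype_injective M'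
    have hWM : W ≤ M := fun w hw => ⟨⟨w, hWR hw⟩, hWM' hw, rfl⟩
    have hclosed : ∀ y : G, (y = 1 ∨ y = z) → ∀ g : G, g * y * g⁻¹ ∈ (R : Subgroup G) →
        g * y * g⁻¹ ∈ M := by
      intro y hy g hg
      rcases hy with rfl | rfl
      · simp
      · exact hWM (Subgroup.subset_closure ⟨hg, isConj_iff.2 ⟨g, rfl⟩⟩)
    obtain ⟨N, hNn, hNi⟩ := exists_index_two_of_closed R M hMR
      (by rw [Subgroup.relIndex, hMsub]; exact hMi)
      (fun a ha g hg => hclosed _ (hsq a ha) g hg)
      (fun a ha b hb g hg => hclosed _ (hcom a ha b hb) g hg)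
      (fun x hx a ha => hWM (hN x hx a ha))
      (fun a ha b hb c hc => by
        rcases hcom a ha b hb with h | h <;> rw [h]
        · exact Commute.one_left c
        · exact (hzc c hc).symm)
      u.2 (fun h => hu (hMsub ▸ (Subgroup.mem_subgroupOf.2 h)))
      (hindex u u.2)
    exact no_index_two hG N hNn hNi
  -- two commuting conjugates
  have hpair : ∀ t s : G, t ∈ (R : Subgroup G) → s ∈ (R : Subgroup G) → IsConj z t → IsConj z s →
      t ≠ z → s ≠ z → Commute t s → s = t ∨ s = t * z := by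
    intro t s htR hsR htc hsc htz hsz hts
    by_contra hne
    push_neg at hne
    obtain ⟨hne1, hne2⟩ := hne
    obtain ⟨g, hg⟩ := isConj_iff.1 htc
    have hncen : ∀ v ∈ (R : Subgroup G), IsConj z v → v ≠ z →
        ∃ r ∈ (R : Subgroup G), ¬ Commute r v := by
      intro v hv hvc hvz
      by_contra h
      push_neg at h
      obtain ⟨k, hk⟩ := isConj_iff.1 hvc
      exact hvz (hk ▸ hcen k (hk ▸ hv) (hk.symm ▸ h))
    have hTt : ∀ x ∈ (R : Subgroup G), Commute x t → x * x = 1 := fun x hx hc =>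
      hT g (hg ▸ htR) (hg ▸ htz) x hx (hg.symm ▸ hc)
    have habel : ∀ x ∈ (R : Subgroup G), ∀ y ∈ (R : Subgroup G), Commute x t → Commute y t →
        Commute x y := by
      intro x hx y hy hxt hyt
      have e1 := inv_eq_of_mul_eq_one_right (hTt x hx hxt)
      have e2 := inv_eq_of_mul_eq_one_right (hTt y hy hyt)
      have e3 := inv_eq_of_mul_eq_one_right (hTt _ (mul_mem hx hy) (hxt.mul_left hyt))
      rw [mul_inv_rev, e1, e2] at e3
      exact e3.symm
    -- conjugate the centraliser of `t` into the Sylow subgroup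
    set C := Subgroup.centralizer ({t} : Set G) with hC
    set P2 := (R : Subgroup G).map (MulAut.conj g).toMonoidHom with hP2
    set T := (R : Subgroup G) ⊓ C with hTdef
    have hP2C : P2 ≤ C := by
      rintro _ ⟨r, hr, rfl⟩
      rw [hC, Subgroup.mem_centralizer_singleton_iff, ← hg]
      exact ((hzc r hr).map (MulAut.conj g).toMonoidHom).eq
    obtain ⟨Q', hQ'⟩ := ((R.2.map _ : IsPGroup 2 P2).comap_subtype (K := C)).exists_le_sylow
    obtain ⟨Q, hQ⟩ := ((R.2.to_le inf_le_left : IsPGroup 2 T).comap_subtype (K := C)).exists_le_sylow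
    obtain ⟨c, hc⟩ := MulAction.exists_smul_eq C Q Q'
    have hQ'eq : (Q' : Subgroup C).map C.subtype = P2 := by
      have hle : P2 ≤ (Q' : Subgroup C).map C.subtype :=
        fun x hx => Subgroup.mem_map.2 ⟨⟨x, hP2C hx⟩, hQ' hx, rfl⟩
      refine (Subgroup.eq_of_le_of_card_ge hle ?_).symm
      obtain ⟨U, hU⟩ := (Q'.2.map C.subtype).exists_le_sylow
      calc Nat.card ((Q' : Subgroup C).map C.subtype) ≤ Nat.card (U : Subgroup G) :=
            Subgroup.card_le_of_le hU
        _ = Nat.card (R : Subgroup G) := by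
            rw [Sylow.card_eq_multiplicity, Sylow.card_eq_multiplicity]
        _ = Nat.card P2 := by
            rw [hP2]
            exact (Subgroup.card_map_of_injective (MulAut.conj g).injective).symm
    have hk : ∀ x ∈ T, (g⁻¹ * (c : G)) * x * (g⁻¹ * (c : G))⁻¹ ∈ (R : Subgroup G) := by
      intro x hx
      have hxC : x ∈ C := hx.2
      have hmem : c * ⟨x, hxC⟩ * c⁻¹ ∈ (Q' : Subgroup C) := by
        rw [← hc, Sylow.coe_subgroup_smul]
        exact Subgroup.smul_mem_pointwise_smul _ (MulAut.conj c) _ (hQ hx)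
      obtain ⟨r, hr, hre⟩ := hQ'eq ▸ (Subgroup.mem_map_of_mem C.subtype hmem)
      simp only [MulEquiv.coe_toMonoidHom, MulAut.conj_apply, Subgroup.coe_subtype, Subgroup.coe_mul,
        Subgroup.coe_inv] at hre
      have e : g⁻¹ * (c : G) * x * (g⁻¹ * (c : G))⁻¹ = r := by
        rw [show g⁻¹ * (c : G) * x * (g⁻¹ * (c : G))⁻¹ = g⁻¹ * ((c : G) * x * (c : G)⁻¹) * g by group,
          ← hre]
        group
      rw [e]; exact hr
    set k := g⁻¹ * (c : G) with hkdef
    have hkt : k * t * k⁻¹ = z := by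
      have hct : (c : G) * t = t * c := Subgroup.mem_centralizer_singleton_iff.1 c.2
      rw [hkdef, show g⁻¹ * (c : G) * t * (g⁻¹ * (c : G))⁻¹ = g⁻¹ * ((c : G) * t * (c : G)⁻¹) * g by
        group, hct, mul_inv_cancel_right, ← hg]
      group
    have hsT : s ∈ T := ⟨hsR, Subgroup.mem_centralizer_singleton_iff.2 hts.symm.eq⟩
    set s' := k * s * k⁻¹ with hs'
    have hs'R : s' ∈ (R : Subgroup G) := hk s hsT
    have hs'z : s' ≠ z := fun e => hne1 (mul_left_cancel (mul_right_cancel (e.trans hkt.symm)))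
    have hs'c : IsConj z s' := hsc.trans (isConj_iff.2 ⟨k, rfl⟩)
    obtain ⟨y, hy, hyc⟩ := hncen s' hs'R hs'c hs'z
    have hst : IsConj z (s * t) := by
      refine hsc.trans (isConj_iff.2 ⟨k⁻¹ * y * k, ?_⟩)
      have h1 := hconj y hy s' hs'R hyc
      calc k⁻¹ * y * k * s * (k⁻¹ * y * k)⁻¹ = k⁻¹ * (y * s' * y⁻¹) * k := by rw [hs']; group
        _ = k⁻¹ * (k * s * k⁻¹ * (k * t * k⁻¹)) * k := by rw [h1, hkt]
        _ = s * t := by group
    have hstz : s * t ≠ z := fun e => hne2 (by
      have ht2 : t * t = 1 := hTt t htR (Commute.refl t)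
      calc s = s * t * t := by rw [mul_assoc, ht2, mul_one]
        _ = t * z := by rw [e, (hzc t htR).eq])
    obtain ⟨r, hr, hrc⟩ := hncen (s * t) (mul_mem hsR htR) hst hstz
    apply hrc
    by_cases hrt : Commute r t
    · exact (habel r hr s hsR hrt hts.symm).mul_right hrt
    · have hrs : ¬ Commute r s := by
        intro hrs
        obtain ⟨q, hq, hqs⟩ := hncen s hsR hsc hsz
        by_cases hqt : Commute q t
        · exact hqs (habel q hq s hsR hqt hts.symm)
        · have h1 := hindex t htR r hr q hq hrt hqt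
          exact hqs (by
            have h2 := hrs.mul_left (habel _ (mul_mem (inv_mem hr) hq) s hsR h1 hts.symm)
            rwa [mul_inv_cancel_left] at h2)
      have e1 := hconj r hr s hsR hrs
      have e2 := hconj r hr t htR hrt
      show r * (s * t) = s * t * r
      calc r * (s * t) = (r * s * r⁻¹) * (r * t * r⁻¹) * r := by group
        _ = s * (z * t) * z * r := by rw [e1, e2]; simp only [mul_assoc]
        _ = s * t * (z * z) * r := by rw [(hzc t htR).symm.eq]; simp only [mul_assoc]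
        _ = s * t * r := by rw [hz2, mul_one]
  -- two non-commuting conjugates
  obtain ⟨t, s, htR, hsR, htc, hsc, hts⟩ : ∃ t s : G, t ∈ (R : Subgroup G) ∧ s ∈ (R : Subgroup G) ∧
      IsConj z t ∧ IsConj z s ∧ ¬ Commute t s := by
    by_contra h
    push_neg at h
    obtain ⟨a, ha, b, hb, hab⟩ := hnab
    have hle : W ≤ Subgroup.centralizer {y : G | y ∈ (R : Subgroup G) ∧ IsConj z y} := by
      rw [hW, Subgroup.closure_le]
      intro y hy
      rw [SetLike.mem_coe, Subgroup.mem_centralizer_iff]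
      exact fun x hx => (h x y hx.1 hy.1 hx.2 hy.2).eq
    have hb' : b ∈ Subgroup.centralizer (W : Set G) := by
      rw [hW, Subgroup.centralizer_closure]
      exact hle (hWtop hb)
    exact hab (Subgroup.mem_centralizer_iff.1 hb' a (hWtop ha))
  have htz : t ≠ z := fun e => hts (e ▸ (hzc s hsR).symm)
  have hsz : s ≠ z := fun e => hts (e ▸ hzc t htR)
  have hto : orderOf t = 2 := by
    obtain ⟨g, rfl⟩ := isConj_iff.1 htc
    exact (orderOf_injective (MulAut.conj g).toMonoidHom (MulAut.conj g).injective z).trans hzo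
  have hso : orderOf s = 2 := by
    obtain ⟨g, rfl⟩ := isConj_iff.1 hsc
    exact (orderOf_injective (MulAut.conj g).toMonoidHom (MulAut.conj g).injective z).trans hzo
  have ht2 : t * t = 1 := by rw [← pow_two, ← hto]; exact pow_orderOf_eq_one t
  have hs2 : s * s = 1 := by rw [← pow_two, ← hso]; exact pow_orderOf_eq_one s
  have hts2 : (t * s) ^ 2 = z := by
    have h := hconj t htR s hsR hts
    rw [inv_eq_of_mul_eq_one_right ht2] at h
    rw [pow_two, ← mul_assoc, h, (hzc s hsR).eq, mul_assoc, hs2, mul_one]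
  set H := Subgroup.closure ({t, s} : Set G) with hH
  have htH : t ∈ H := Subgroup.subset_closure (by simp)
  have hsH : s ∈ H := Subgroup.subset_closure (by simp)
  have hzH : z ∈ H := hts2 ▸ pow_mem (mul_mem htH hsH) 2
  have hWH : W ≤ H := by
    rw [hW, Subgroup.closure_le]
    intro r hr
    obtain ⟨hrR, hrc⟩ := hr
    rcases eq_or_ne r z with rfl | hrz
    · exact hzH
    by_cases hrt : Commute r t
    · rcases hpair t r htR hrR htc hrc htz hrz hrt.symm with e | e <;> rw [e]
      exacts [htH, mul_mem htH hzH]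
    by_cases hrs : Commute r s
    · rcases hpair s r hsR hrR hsc hrc hsz hrz hrs.symm with e | e <;> rw [e]
      exacts [hsH, mul_mem hsH hzH]
    exfalso
    have hc1 : Commute (r⁻¹ * s) t := hindex t htR r hrR s hsR hrt fun h => hts h.symm
    obtain ⟨g, hg⟩ := isConj_iff.1 htc
    have hsq1 := hT g (hg ▸ htR) (hg ▸ htz) _ (mul_mem (inv_mem hrR) hsR) (hg.symm ▸ hc1)
    obtain ⟨g', hg'⟩ := isConj_iff.1 hrc
    have hr2 : r * r = 1 := hT g' (hg' ▸ hrR) (hg' ▸ hrz) r hrR (hg'.symm ▸ Commute.refl r)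
    have e := inv_eq_of_mul_eq_one_right hsq1
    rw [mul_inv_rev, inv_inv, inv_eq_of_mul_eq_one_right hs2,
      inv_eq_of_mul_eq_one_right hr2] at e
    exact hrs e.symm
  have hRH : (R : Subgroup G) = H := le_antisymm (hWtop.trans hWH) (by
    rw [hH, Subgroup.closure_le]
    rintro x (rfl | rfl)
    exacts [htR, hsR])
  have htne : t ≠ s := fun e => hts (e ▸ Commute.refl t)
  have ho4 : orderOf (t * s) = 4 := by
    refine (orderOf_eq_prime_pow (p := 2) (n := 1) ?_ ?_).trans (by norm_num)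
    · rw [pow_one, hts2]
      exact fun e => by rw [e, orderOf_one] at hzo; omega
    · rw [pow_succ, pow_one, pow_mul, hts2, pow_two, hz2]
  have e1 := (MonoidHom.ofInjective (Invol.dihHom_injective hto hso htne)).trans
    (MulEquiv.subgroupCongr (Invol.dihHom_range hto hso))
  rw [ho4] at e1
  exact ⟨((MulEquiv.subgroupCongr hRH).trans e1.symm)⟩

end Cfsg.Agent.ZStarApps
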