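import Cfsg.Agent.Lib.BrauerSuzuki.ZStar
import Cfsg.Agent.Lib.Solvable.Coprime
import Cfsg.Prelude.Def_Solvable

/-!
A class of involutions whose pairwise products are p-elements for an odd prime p.
-/

set_option autoImplicit false
set_option linter.style.haveILetI false
set_option linter.unusedSectionVars false

namespace Cfsg.Agent.ZStarApps

open Cfsg Cfsg.Agent.BrauerSuzuki

universe u

variable {G : Type u} [Group G] [Finite G]

theorem products_mem_pCore {p : ℕ} (hp : p.Prime) (hp2 : p ≠ 2) (d : G) (hd : orderOf d = 2)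
    (hprod : ∀ a ∈ conjugatesOf d, ∀ b ∈ conjugatesOf d, ∃ k : ℕ, orderOf (a * b) = p ^ k) :
    ∀ a ∈ conjugatesOf d, ∀ b ∈ conjugatesOf d, a * b ∈ Cfsg.pCore p G := by
  haveI : Fact p.Prime := ⟨hp⟩
  have hd2 : d * d = 1 := by rw [← pow_two, ← hd]; exact pow_orderOf_eq_one d
  have hdinv : d⁻¹ = d := inv_eq_of_mul_eq_one_right hd2
  have hmem : ∀ g : G, g * d * g⁻¹ ∈ conjugatesOf d := fun g => isConj_iff.2 ⟨g, rfl⟩
  have hiso : IsIsolated d := by
    intro g hc
    obtain ⟨k, hk⟩ := hprod _ (hmem 1) _ (hmem g)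
    simp only [one_mul, inv_one, mul_one] at hk
    have h2 : (d * (g * d * g⁻¹)) ^ 2 = 1 := by
      have hv : g * d * g⁻¹ * (g * d * g⁻¹) = 1 := by
        rw [show g * d * g⁻¹ * (g * d * g⁻¹) = g * (d * d) * g⁻¹ by group, hd2, mul_one,
          mul_inv_cancel]
      rw [pow_two, hc.symm.mul_mul_mul_comm, hd2, hv, one_mul]
    have h3 := orderOf_dvd_of_pow_eq_one h2
    rw [hk] at h3
    have h4 : p ^ k = 1 := by
      rcases Nat.eq_zero_or_pos k with rfl | hk0
      · simp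
      · exact absurd ((Nat.prime_dvd_prime_iff_eq hp Nat.prime_two).1
          ((dvd_pow_self p hk0.ne').trans h3)) hp2
    rw [h4] at hk
    rw [← inv_eq_of_mul_eq_one_right (orderOf_eq_one_iff.1 hk), hdinv]
  have hz := zStar G d hd hiso
  set O := pPrimeCore 2 G with hOdef
  haveI hOn : O.Normal := Cfsg.Agent.FittingCores.pPrimeCore_normal 2
  have hOodd : ¬ 2 ∣ Nat.card O := fun h => Nat.prime_two.coprime_iff_not_dvd.1
    (Cfsg.Agent.FittingCores.pPrimeCore_coprime (G := G) 2).symm h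
  have hdN : Subgroup.zpowers d ≤ Subgroup.normalizer (O : Set G) := by
    intro x _
    rw [Subgroup.mem_normalizer_iff]
    exact fun h => ⟨fun hh => hOn.conj_mem h hh x,
      fun hh => by simpa [mul_assoc] using hOn.conj_mem _ hh x⁻¹⟩
  have hcop : (Nat.card (Subgroup.zpowers d)).Coprime (Nat.card O) := by
    rw [Nat.card_zpowers, hd]; exact (Nat.prime_two.coprime_iff_not_dvd).2 hOodd
  have hsolv : Group.IsSolvable (Subgroup.zpowers d) ∨ Group.IsSolvable O := by
    left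
    letI : CommGroup (Subgroup.zpowers d) := IsCyclic.commGroup
    infer_instance
  set C := (Subgroup.centralizer ({d} : Set G)).subgroupOf O with hC
  -- Sylow subgroups for other primes are centralised
  have hother : ∀ q : ℕ, q.Prime → q ≠ p → ¬ q ∣ C.index := by
    intro q hq hqp hdvd
    haveI : Fact q.Prime := ⟨hq⟩
    obtain ⟨Q, hQ⟩ := CoprimeAct.exists_invariant_sylow hdN hcop hsolv q
    refine Q.not_dvd_index (hdvd.trans (Subgroup.index_dvd_of_le fun x hx => ?_))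
    rw [hC, Subgroup.mem_subgroupOf, Subgroup.mem_centralizer_singleton_iff]
    have hxd : (x : G)⁻¹ * (d * x * d⁻¹) ∈ (Q : Subgroup O).map O.subtype :=
      mul_mem (inv_mem ⟨x, hx, rfl⟩)
        (CoprimeAct.conj_mem_of_mem_normalizer (hQ (Subgroup.mem_zpowers d)) ⟨x, hx, rfl⟩)
    obtain ⟨k, hk⟩ := hprod _ (hmem (x : G)⁻¹) _ (hmem 1)
    simp only [one_mul, inv_one, mul_one, inv_inv] at hk
    rw [show (x : G)⁻¹ * d * x * d = (x : G)⁻¹ * (d * x * d⁻¹) by rw [hdinv]; group] at hk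
    obtain ⟨y, hy, hy'⟩ := hxd
    obtain ⟨j, hj⟩ := IsPGroup.iff_orderOf.1 Q.2 ⟨y, hy⟩
    rw [Subgroup.orderOf_mk, ← Subgroup.orderOf_coe] at hj
    change (y : G) = _ at hy'
    rw [hy', hk] at hj
    have h1 : p ^ k = 1 := Nat.eq_one_of_dvd_coprimes
      (((Nat.coprime_primes hp hq).2 (Ne.symm hqp)).pow k j) dvd_rfl hj.dvd
    rw [h1] at hk
    have h2 := inv_mul_eq_one.1 (orderOf_eq_one_iff.1 hk)
    conv_lhs => rw [h2, inv_mul_cancel_right]
  obtain ⟨P, hP⟩ := CoprimeAct.exists_invariant_sylow hdN hcop hsolv p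
  -- the Sylow subgroup is transitive
  have htrans : ∀ x : O, ∃ q ∈ (P : Subgroup O), (q : G) * d * (q : G)⁻¹ = (x : G) * d * (x : G)⁻¹ := by
    obtain ⟨a, ha⟩ : ∃ a, C.index = p ^ a :=
      ⟨_, Nat.eq_prime_pow_of_unique_prime_dvd Subgroup.index_ne_zero_of_finite
        fun {q} hq hqd => Classical.not_not.1 fun hne => hother q hq hne hqd⟩
    set e := (Nat.card O).factorization p with he
    have hPc : Nat.card (P : Subgroup O) = p ^ e := P.card_eq_multiplicity
    obtain ⟨i, hi⟩ := IsPGroup.iff_card.1 (P.2.to_subgroup (C.subgroupOf (P : Subgroup O)))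
    have h1 : p ^ i ∣ Nat.card C := by
      rw [← hi]
      exact Subgroup.card_dvd_of_injective
        ((P : Subgroup O).subtype.comp (C.subgroupOf (P : Subgroup O)).subtype |>.codRestrict C
          (fun x => x.2)) (fun x y h => Subtype.ext (Subtype.ext (congrArg Subtype.val h :)))
    have h2 : p ^ (a + i) ∣ Nat.card O := by
      rw [← C.index_mul_card, ha, pow_add]; exact Nat.mul_dvd_mul_left _ h1
    have h3 : a + i ≤ e := (hp.pow_dvd_iff_le_factorization Nat.card_pos.ne').1 h2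
    have h4 := (C.subgroupOf (P : Subgroup O)).card_mul_index
    rw [hi, hPc] at h4
    have h5 : p ^ a ≤ (C.subgroupOf (P : Subgroup O)).index := by
      refine Nat.le_of_mul_le_mul_left ?_ (pow_pos hp.pos i)
      rw [h4, ← pow_add]
      exact Nat.pow_le_pow_right hp.pos (by omega)
    have horb : MulAction.orbit (P : Subgroup O) ((1 : O) : O ⧸ C) = Set.univ := by
      refine Set.eq_of_subset_of_ncard_le (Set.subset_univ _) ?_ (Set.toFinite _)
      rw [Set.ncard_univ, show Nat.card (O ⧸ C) = C.index from rfl, ha,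
        ← MulAction.index_stabilizer]
      refine h5.trans (le_of_eq ?_)
      congr 1
      ext q
      rw [MulAction.mem_stabilizer_iff, Subgroup.mem_subgroupOf]
      change _ ↔ (((q : O) * 1 : O) : O ⧸ C) = ((1 : O) : O ⧸ C)
      rw [mul_one, QuotientGroup.eq, mul_one, inv_mem_iff]
    intro x
    obtain ⟨q, hq⟩ : ((x : O) : O ⧸ C) ∈ MulAction.orbit (P : Subgroup O) ((1 : O) : O ⧸ C) :=
      horb ▸ Set.mem_univ _
    change (((q : O) * 1 : O) : O ⧸ C) = _ at hq
    rw [mul_one, QuotientGroup.eq, hC, Subgroup.mem_subgroupOf,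
      Subgroup.mem_centralizer_singleton_iff] at hq
    refine ⟨q, q.2, ?_⟩
    simp only [Subgroup.coe_mul, Subgroup.coe_inv] at hq
    calc ((q : O) : G) * d * ((q : O) : G)⁻¹
        = ((q : O) : G) * (d * (((q : O) : G)⁻¹ * x)) * (x : G)⁻¹ := by group
      _ = (x : G) * d * (x : G)⁻¹ := by rw [← hq]; group
  set Pm := (P : Subgroup O).map O.subtype with hPm
  have hdP : ∀ g : G, g * d * g⁻¹ * d ∈ Pm := by
    intro g
    have hr : g * d * g⁻¹ * d⁻¹ ∈ O := hz g
    set r := g * d * g⁻¹ * d⁻¹ with hr'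
    obtain ⟨j, hj⟩ : Odd (orderOf r) := Nat.not_even_iff_odd.1 fun h => hOodd
      (h.two_dvd.trans (Subgroup.orderOf_dvd_natCard O hr))
    have hinv : d * r * d⁻¹ = r⁻¹ := by
      obtain ⟨v, hv, hvinv⟩ : ∃ v, g * d * g⁻¹ = v ∧ v⁻¹ = v :=
        ⟨_, rfl, by rw [conj_inv, hdinv]⟩
      rw [hr', hv, mul_inv_rev v d⁻¹, inv_inv, hvinv, hdinv, mul_assoc, mul_assoc, hd2, mul_one]
    have hss : r ^ (j + 1) * r ^ (j + 1) = r := by
      rw [← pow_add, show j + 1 + (j + 1) = orderOf r + 1 by omega, pow_succ, pow_orderOf_eq_one,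
        one_mul]
    have hsd : d * (r ^ (j + 1))⁻¹ = r ^ (j + 1) * d := by
      have h := congrArg Inv.inv (congrArg (· ^ (j + 1)) hinv)
      simp only [conj_pow, inv_pow, inv_inv] at h
      rw [conj_inv] at h
      conv_rhs => rw [← h]
      rw [inv_mul_cancel_right]
    have hg : g * d * g⁻¹ = r ^ (j + 1) * d * (r ^ (j + 1))⁻¹ := by
      calc g * d * g⁻¹ = r * d := by rw [hr', inv_mul_cancel_right]
        _ = r ^ (j + 1) * (r ^ (j + 1) * d) := by rw [← mul_assoc, hss]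
        _ = r ^ (j + 1) * d * (r ^ (j + 1))⁻¹ := by rw [mul_assoc _ d, hsd]
    obtain ⟨q, hq, hqe⟩ := htrans ⟨_, pow_mem hr (j + 1)⟩
    change _ = r ^ (j + 1) * d * (r ^ (j + 1))⁻¹ at hqe
    rw [hg, ← hqe, mul_assoc, mul_assoc]
    refine mul_mem ⟨q, hq, rfl⟩ ?_
    have := CoprimeAct.conj_mem_of_mem_normalizer (hP (Subgroup.mem_zpowers d))
      (inv_mem (show ((q : O) : G) ∈ Pm from ⟨q, hq, rfl⟩))
    rwa [hdinv, mul_assoc] at this
  have hab : ∀ a ∈ conjugatesOf d, ∀ b ∈ conjugatesOf d, a * b ∈ Pm := by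
    intro a ha b hb
    obtain ⟨g, rfl⟩ := isConj_iff.1 ha
    obtain ⟨f, rfl⟩ := isConj_iff.1 hb
    have := mul_mem (hdP g) (inv_mem (hdP f))
    have hf : (f * d * f⁻¹)⁻¹ = f * d * f⁻¹ := by rw [mul_inv_rev, mul_inv_rev, inv_inv, hdinv]; group
    rwa [mul_inv_rev (f * d * f⁻¹) d, hdinv, hf, mul_assoc, ← mul_assoc d d, hd2, one_mul] at this
  set M := Subgroup.closure {x : G | ∃ a ∈ conjugatesOf d, ∃ b ∈ conjugatesOf d, x = a * b} with hM
  have hMn : M.Normal := by
    refine ⟨fun x hx g => ?_⟩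
    have hle : M ≤ M.comap (MulAut.conj g).toMonoidHom := by
      refine (Subgroup.closure_le _).2 ?_
      rintro _ ⟨a, ha, b, hb, rfl⟩
      refine Subgroup.subset_closure ⟨g * a * g⁻¹, isConj_iff.2 ?_, g * b * g⁻¹, isConj_iff.2 ?_,
        by simp [mul_assoc]⟩
      · obtain ⟨c, rfl⟩ := isConj_iff.1 ha; exact ⟨g * c, by group⟩
      · obtain ⟨c, rfl⟩ := isConj_iff.1 hb; exact ⟨g * c, by group⟩
    exact hle hx
  have hMP : M ≤ Pm := (Subgroup.closure_le _).2 (by
    rintro _ ⟨a, ha, b, hb, rfl⟩; exact hab a ha b hb)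
  intro a ha b hb
  exact Cfsg.Agent.FittingCores.le_pCore hMn ((P.2.map O.subtype).to_le hMP)
    (Subgroup.subset_closure ⟨a, ha, b, hb, rfl⟩)

end Cfsg.Agent.ZStarApps
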