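import Cfsg.Agent.Lib.BrauerSuzuki.TwoElements
import Cfsg.Agent.Lib.TwoGroups.WreathedFusion
import Cfsg.Agent.Lib.TwoGroups.QDFusion
import Cfsg.Agent.Lib.Isolated.Basic

/-!
Quasi-dihedral and wreathed Sylow 2-subgroups: when the central involution does not fuse, the
centre of the Sylow subgroup is central modulo the odd core.
-/

set_option autoImplicit false
set_option linter.style.haveILetI false
set_option linter.unusedSectionVars false

namespace Cfsg.Agent.ZStarApps

variable {G : Type*} [Group G] [Finite G] (S : Sylow 2 G)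

/-- The involution of a centre of quasi-dihedral or wreathed shape does not fuse. -/
def CentralInvolFixed : Prop :=
  ∀ z : G, z ∈ (Subgroup.center (S : Subgroup G)).map (S : Subgroup G).subtype → orderOf z = 2 →
    ∀ g : G, g * z * g⁻¹ ∈ (S : Subgroup G) → g * z * g⁻¹ = z

theorem center_inZStar (hS : Cfsg.IsQuasiDihedral (S : Subgroup G) ∨ Cfsg.IsWreathed (S : Subgroup G))
    (hfix : CentralInvolFixed S) :
    ∀ c ∈ (Subgroup.center (S : Subgroup G)).map (S : Subgroup G).subtype, ∀ g : G,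
      g * c * g⁻¹ * c⁻¹ ∈ Cfsg.oddCore G := by
  classical
  haveI : Fact (Nat.Prime 2) := ⟨Nat.prime_two⟩
  intro c hc g
  have hcS : c ∈ (S : Subgroup G) := Subgroup.map_subtype_le _ hc
  obtain ⟨i, hi⟩ := IsPGroup.iff_orderOf.1 S.2 ⟨c, hcS⟩
  rw [Subgroup.orderOf_mk] at hi
  refine BrauerSuzuki.zStar_two_element G c ⟨i, hi⟩ (BrauerSuzuki.fixed_of_sylow hcS ?_) g
  rcases hS with hS | hS
  · obtain ⟨d, -⟩ := QD.exists_pres hS
    obtain ⟨c', hc', rfl⟩ := hc
    rw [d.center_eq] at hc'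
    obtain ⟨k, rfl⟩ := Subgroup.mem_zpowers_iff.1 hc'
    intro g hg
    have hz : ∀ g : G, g * (d.z : G) * g⁻¹ ∈ (S : Subgroup G) → g * (d.z : G) * g⁻¹ = d.z :=
      hfix _ ⟨_, d.center_eq ▸ Subgroup.mem_zpowers d.z, rfl⟩ (QDFus.order_z d)
    rcases Int.even_or_odd k with hk | hk
    · obtain ⟨m, rfl⟩ := hk
      rw [show d.z ^ (m + m) = 1 by rw [← two_mul, zpow_mul, zpow_two, d.zz, one_zpow]]
      simp
    · obtain ⟨m, rfl⟩ := hk
      have e : d.z ^ (2 * m + 1) = d.z := by
        rw [zpow_add, zpow_mul, zpow_two, d.zz, one_zpow, one_mul, zpow_one]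
      rw [e] at hg ⊢
      exact hz g hg
  · obtain ⟨d, -⟩ := Wreath.exists_pres hS
    have hU : WrFus.idxU S d = 2 := by
      refine (WrFus.idxU_cases S d).resolve_right fun h6 => ?_
      obtain ⟨w, hw⟩ := isConj_iff.1 (WrFus.zz_conj_tt S d h6)
      have h := hfix _ (WrFus.zz_mem_ZG S d) (WrFus.order_zz S d) w (hw ▸ SetLike.coe_mem _)
      rw [hw] at h
      have h' := Subtype.ext h
      rw [d.u_eq_iff] at h'
      exact d.not_dvd_h (by simpa using h'.2)
    exact fun g hg => WrFus.center_fixed S d hU hc hg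

theorem core_sup_center_normal (hS : Cfsg.IsQuasiDihedral (S : Subgroup G) ∨ Cfsg.IsWreathed (S : Subgroup G))
    (hfix : CentralInvolFixed S) :
    (Cfsg.oddCore G ⊔ (Subgroup.center (S : Subgroup G)).map (S : Subgroup G).subtype).Normal := by
  haveI : (Cfsg.oddCore G).Normal := Cfsg.Agent.FittingCores.pPrimeCore_normal 2
  refine ⟨fun x hx g => ?_⟩
  rw [Subgroup.mem_sup_of_normal_left] at hx
  obtain ⟨o, ho, c, hc, rfl⟩ := hx
  rw [show g * (o * c) * g⁻¹ = g * o * g⁻¹ * (g * c * g⁻¹ * c⁻¹) * c by group]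
  exact mul_mem (mul_mem (Subgroup.mem_sup_left ((inferInstance : (Cfsg.oddCore G).Normal).conj_mem o ho g))
    (Subgroup.mem_sup_left (center_inZStar S hS hfix c hc g))) (Subgroup.mem_sup_right hc)

/-- The centre of a quasi-dihedral or wreathed group has one involution. -/
theorem center_invol_unique
    (hS : Cfsg.IsQuasiDihedral (S : Subgroup G) ∨ Cfsg.IsWreathed (S : Subgroup G)) {a b : G}
    (ha : a ∈ (Subgroup.center (S : Subgroup G)).map (S : Subgroup G).subtype)
    (hb : b ∈ (Subgroup.center (S : Subgroup G)).map (S : Subgroup G).subtype)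
    (hao : orderOf a = 2) (hbo : orderOf b = 2) : a = b := by
  classical
  obtain ⟨w, hw⟩ : ∃ w : (S : Subgroup G), Subgroup.center (S : Subgroup G) = Subgroup.zpowers w := by
    rcases hS with h | h
    · obtain ⟨d, -⟩ := QD.exists_pres h; exact ⟨_, d.center_eq⟩
    · obtain ⟨d, -⟩ := Wreath.exists_pres h; exact ⟨_, d.center_eq⟩
  haveI : IsCyclic (Subgroup.center (S : Subgroup G)) := hw ▸ inferInstance
  letI : Fintype (Subgroup.center (S : Subgroup G)) := Fintype.ofFinite _
  obtain ⟨a', ha', rfl⟩ := ha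
  obtain ⟨b', hb', rfl⟩ := hb
  have hd : 2 ∣ Fintype.card (Subgroup.center (S : Subgroup G)) := by
    rw [← Nat.card_eq_fintype_card]
    refine (dvd_of_eq ?_).trans (orderOf_dvd_natCard (⟨a', ha'⟩ : Subgroup.center (S : Subgroup G)))
    rw [Subgroup.orderOf_mk]
    exact hao.symm.trans (orderOf_injective _ (S : Subgroup G).subtype_injective a')
  obtain ⟨q, hq⟩ := Finset.card_eq_one.1
    ((IsCyclic.card_orderOf_eq_totient hd).trans Nat.totient_two)
  have key : ∀ (v : (S : Subgroup G)) (hv : v ∈ Subgroup.center (S : Subgroup G)),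
      orderOf ((S : Subgroup G).subtype v) = 2 → (⟨v, hv⟩ : Subgroup.center (S : Subgroup G)) = q := by
    intro v hv hvo
    have hm : (⟨v, hv⟩ : Subgroup.center (S : Subgroup G)) ∈ ({q} : Finset _) := by
      rw [← hq, Finset.mem_filter]
      refine ⟨Finset.mem_univ _, ?_⟩
      rw [Subgroup.orderOf_mk]
      exact (orderOf_injective _ (S : Subgroup G).subtype_injective v).symm.trans hvo
    exact Finset.mem_singleton.1 hm
  exact congrArg (fun v => (S : Subgroup G).subtype v)
    (congrArg Subtype.val ((key a' ha' hao).trans (key b' hb' hbo).symm))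

theorem exists_core_mul_centralizer
    (hS : Cfsg.IsQuasiDihedral (S : Subgroup G) ∨ Cfsg.IsWreathed (S : Subgroup G))
    (hfix : CentralInvolFixed S) (h : G) :
    ∃ o ∈ Cfsg.oddCore G, ∃ c ∈ Subgroup.centralizer
      (((Subgroup.center (S : Subgroup G)).map (S : Subgroup G).subtype : Subgroup G) : Set G),
      h = o * c := by
  classical
  haveI : Fact (Nat.Prime 2) := ⟨Nat.prime_two⟩
  haveI hO : (Cfsg.oddCore G).Normal := Cfsg.Agent.FittingCores.pPrimeCore_normal 2
  set O := Cfsg.oddCore G with hOdef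
  set Z := (Subgroup.center (S : Subgroup G)).map (S : Subgroup G).subtype with hZ
  set W := O ⊔ Z with hW
  haveI : W.Normal := core_sup_center_normal S hS hfix
  have hZp : IsPGroup 2 Z := S.2.to_le (Subgroup.map_subtype_le _)
  have hcop : (Nat.card O).Coprime 2 := Cfsg.Agent.FittingCores.pPrimeCore_coprime (G := G) 2
  have hOZ : O ⊓ Z = ⊥ := Cfsg.Agent.PBasic.inf_eq_bot_of_coprime hcop hZp
  -- `Z` is a Sylow subgroup of `W`
  have hidx : ¬ 2 ∣ (Z.subgroupOf W).index := by
    show ¬ 2 ∣ Z.relIndex (O ⊔ Z)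
    rw [← Cfsg.Agent.PBasic.relIndex_eq_relIndex_sup Z O]
    intro hd
    exact Nat.not_coprime_of_dvd_of_dvd one_lt_two (hd.trans (Subgroup.index_dvd_card _)) dvd_rfl hcop
  let P : Sylow 2 W := (hZp.comap_subtype (K := W)).toSylow hidx
  obtain ⟨n, hn, hnh⟩ := IsolatedP.exists_mul_normalizer P
    (h := h) (by rw [Subgroup.normalizer_eq_top]; exact Subgroup.mem_top h)
  have hPZ : (P : Subgroup W).map W.subtype = Z := by
    show (Z.subgroupOf W).map W.subtype = Z
    rw [Subgroup.map_subgroupOf_eq_of_le le_sup_right]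
  rw [hPZ] at hnh
  rw [hW, Subgroup.mem_sup_of_normal_left] at hn
  obtain ⟨o, ho, c, hc, rfl⟩ := hn
  refine ⟨o, ho, o⁻¹ * h, ?_, by group⟩
  have hN : o⁻¹ * h ∈ Subgroup.normalizer (Z : Set G) := by
    have := mul_mem (Subgroup.le_normalizer hc) hnh
    simpa [mul_assoc] using this
  rw [Subgroup.mem_centralizer_iff]
  intro y hy
  have h1 : (o⁻¹ * h) * y * (o⁻¹ * h)⁻¹ * y⁻¹ ∈ O ⊓ Z :=
    Subgroup.mem_inf.2 ⟨center_inZStar S hS hfix y hy _, Z.mul_mem ((Subgroup.mem_normalizer_iff.1 hN y).1 hy) (Z.inv_mem hy)⟩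
  rw [hOZ, Subgroup.mem_bot, mul_inv_eq_one, mul_inv_eq_iff_eq_mul] at h1
  exact h1.symm

end Cfsg.Agent.ZStarApps
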