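import Mathlib.GroupTheory.Transfer
import Mathlib.GroupTheory.Sylow
import Mathlib.GroupTheory.IndexNormal

/-!
A transfer criterion: a Sylow 2-subgroup whose squares lie in a subgroup closed under conjugation.
-/

set_option autoImplicit false
set_option linter.style.haveILetI false
set_option linter.unusedSectionVars false

namespace Cfsg.Agent.ZStarApps

variable {G : Type*} [Group G] [Finite G]

/-- The cosets fixed by `u` whose contribution lies outside `M`. -/
theorem coset_out_iff (R M : Subgroup G) (hMn : ∀ r ∈ R, ∀ m ∈ M, r * m * r⁻¹ ∈ M) (u x : G) :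
    ((x : G ⧸ R).out⁻¹ * u * (x : G ⧸ R).out ∈ R ∧ (x : G ⧸ R).out⁻¹ * u * (x : G ⧸ R).out ∉ M) ↔
      (x⁻¹ * u * x ∈ R ∧ x⁻¹ * u * x ∉ M) := by
  obtain ⟨r, hr⟩ := QuotientGroup.mk_out_eq_mul R x
  rw [hr]
  have e : (x * (r : G))⁻¹ * u * (x * (r : G)) = (r : G)⁻¹ * (x⁻¹ * u * x) * ((r : G)⁻¹)⁻¹ := by
    group
  rw [e]
  constructor
  · rintro ⟨h1, h2⟩
    refine ⟨?_, fun h => h2 (hMn _ (inv_mem r.2) _ h)⟩
    have := mul_mem (mul_mem r.2 h1) (inv_mem r.2)
    simpa [mul_assoc] using this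
  · rintro ⟨h1, h2⟩
    refine ⟨mul_mem (mul_mem (inv_mem r.2) h1) (by simpa using r.2), fun h => h2 ?_⟩
    have := hMn _ r.2 _ h
    simpa [mul_assoc] using this

/-- Transfer: an index two subgroup of a Sylow 2-subgroup containing all squares and their
conjugates, preserved modulo itself by the normaliser, gives a normal subgroup of index two. -/
theorem exists_index_two_of_closed (R : Sylow 2 G) (M : Subgroup G) (hMR : M ≤ (R : Subgroup G))
    (hMi : M.relIndex (R : Subgroup G) = 2)
    (hsq : ∀ a ∈ (R : Subgroup G), ∀ g : G, g * (a * a) * g⁻¹ ∈ (R : Subgroup G) →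
      g * (a * a) * g⁻¹ ∈ M)
    (hcomm : ∀ a ∈ (R : Subgroup G), ∀ b ∈ (R : Subgroup G), ∀ g : G,
      g * (a * b * a⁻¹ * b⁻¹) * g⁻¹ ∈ (R : Subgroup G) → g * (a * b * a⁻¹ * b⁻¹) * g⁻¹ ∈ M)
    (hN : ∀ x ∈ Subgroup.normalizer ((R : Subgroup G) : Set G), ∀ a ∈ (R : Subgroup G),
      x * a * x⁻¹ * a⁻¹ ∈ M)
    (hcen : ∀ a ∈ (R : Subgroup G), ∀ b ∈ (R : Subgroup G), ∀ c ∈ (R : Subgroup G),
      Commute (a * b * a⁻¹ * b⁻¹) c)
    {u : G} (huR : u ∈ (R : Subgroup G)) (huM : u ∉ M)
    (hC : ∀ r ∈ (R : Subgroup G), ∀ s ∈ (R : Subgroup G), ¬ Commute r u → ¬ Commute s u →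
      Commute (r⁻¹ * s) u) :
    ∃ N : Subgroup G, N.Normal ∧ N.index = 2 := by
  classical
  haveI : Fact (Nat.Prime 2) := ⟨Nat.prime_two⟩
  have hi2 : (M.subgroupOf (R : Subgroup G)).index = 2 := hMi
  haveI hnorm : (M.subgroupOf (R : Subgroup G)).Normal := Subgroup.normal_of_index_eq_two hi2
  have hMn : ∀ r ∈ (R : Subgroup G), ∀ m ∈ M, r * m * r⁻¹ ∈ M := fun r hr m hm =>
    hnorm.conj_mem ⟨m, hMR hm⟩ hm ⟨r, hr⟩
  set A := (R : Subgroup G) ⧸ M.subgroupOf (R : Subgroup G)
  have hA2 : Nat.card A = 2 := hi2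
  haveI : IsCyclic A := isCyclic_of_prime_card (p := 2) hA2
  letI : CommGroup A := IsCyclic.commGroup
  let φ : (R : Subgroup G) →* A := QuotientGroup.mk' _
  have hφ : ∀ y : (R : Subgroup G), φ y = 1 ↔ (y : G) ∈ M := fun y => by
    rw [QuotientGroup.mk'_apply, QuotientGroup.eq_one_iff, Subgroup.mem_subgroupOf]
  set e := φ ⟨u, huR⟩ with he
  have he1 : e ≠ 1 := fun h => huM ((hφ _).1 h)
  have he2 : e ^ 2 = 1 := by
    have h := pow_card_eq_one' (x := e)
    rwa [hA2] at h
  have hval : ∀ y : A, y ≠ 1 → y = e := by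
    intro y hy
    by_contra hne
    haveI : Fintype A := Fintype.ofFinite A
    have h3 : ({1, y, e} : Finset A).card ≤ 2 := by
      refine (Finset.card_le_univ _).trans ?_
      rw [← Nat.card_eq_fintype_card, hA2]
    rw [Finset.card_insert_of_notMem (by simp [hy.symm, he1.symm]),
      Finset.card_insert_of_notMem (by simp [hne]), Finset.card_singleton] at h3
    omega
  let V : G →* A := MonoidHom.transfer φ
  haveI : Fintype (G ⧸ (R : Subgroup G)) := Fintype.ofFinite _
  haveI : Fintype (Quotient (MulAction.orbitRel (Subgroup.zpowers u) (G ⧸ (R : Subgroup G)))) :=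
    Fintype.ofFinite _
  set P : G → Prop := fun x => x⁻¹ * u * x ∈ (R : Subgroup G) ∧ x⁻¹ * u * x ∉ M with hP
  set F : Finset (G ⧸ (R : Subgroup G)) := Finset.univ.filter fun q => P q.out with hF
  have hPmem : ∀ x : G, ((x : G ⧸ (R : Subgroup G)) ∈ F ↔ P x) := fun x => by
    simp only [hF, Finset.mem_filter, Finset.mem_univ, true_and]
    exact coset_out_iff _ M hMn u x
  have hVu : V u = e ^ F.card := by
    simp only [V]
    rw [MonoidHom.transfer_eq_prod_quotient_orbitRel_zpowers_quot]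
    have key : ∀ (q : Quotient (MulAction.orbitRel (Subgroup.zpowers u) (G ⧸ (R : Subgroup G))))
        (k : ℕ) (hmem : q.out.out⁻¹ * u ^ k * q.out.out ∈ (R : Subgroup G)),
        Function.minimalPeriod (u • ·) q.out = k →
        φ ⟨_, hmem⟩ = if k = 1 ∧ P q.out.out then e else 1 := by
      intro q k hmem hk
      split_ifs with h
      · obtain ⟨rfl, h1, h2⟩ := h
        refine hval _ fun he => h2 ?_
        have := (hφ _).1 he
        simpa using this
      · rw [hφ]
        show q.out.out⁻¹ * u ^ k * q.out.out ∈ M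
        rcases Nat.even_or_odd' k with ⟨j, rfl | rfl⟩
        · have hu2 : u ^ (2 * j) = u ^ j * u ^ j := by rw [two_mul, pow_add]
          rw [hu2] at hmem ⊢
          simpa using hsq _ (pow_mem huR j) q.out.out⁻¹ (by simpa using hmem)
        · by_contra hc
          have hk1 : 2 * j + 1 = 1 := by
            -- an odd period of a 2-element is one
            obtain ⟨i, hi⟩ := IsPGroup.iff_orderOf.1 R.2 ⟨u, huR⟩
            rw [Subgroup.orderOf_mk] at hi
            have hdvd : 2 * j + 1 ∣ 2 ^ i := by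
              rw [← hk]
              apply Function.IsPeriodicPt.minimalPeriod_dvd
              show (fun y : G ⧸ (R : Subgroup G) => u • y)^[2 ^ i] q.out = q.out
              rw [smul_iterate]
              show u ^ 2 ^ i • q.out = q.out
              rw [← hi, pow_orderOf_eq_one, one_smul]
            exact Nat.eq_one_of_dvd_coprimes
              (Nat.Coprime.pow_right i (Nat.coprime_two_right.2 ⟨j, rfl⟩)) dvd_rfl hdvd
          refine h ⟨hk1, ?_, fun hM => hc ?_⟩
          · rwa [hk1, pow_one] at hmem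
          · rwa [hk1, pow_one]
    rw [Finset.prod_congr rfl (fun q _ => key q _ _ rfl), Finset.prod_ite,
      Finset.prod_const_one, mul_one, Finset.prod_const]
    congr 1
    refine Finset.card_bij' (fun q _ => q.out) (fun c _ => Quotient.mk _ c) (fun q hq => ?_)
      (fun c hc => ?_) (fun q _ => Quotient.out_eq q) (fun c hc => ?_)
    · simp only [Finset.mem_filter, Finset.mem_univ, true_and] at hq
      simp only [hF, Finset.mem_filter, Finset.mem_univ, true_and]
      exact hq.2
    · simp only [hF, Finset.mem_filter, Finset.mem_univ, true_and] at hc ⊢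
      have hfix : u • c = c := by
        rw [← QuotientGroup.out_eq' c, MulAction.Quotient.smul_mk, QuotientGroup.eq, smul_eq_mul,
          mul_inv_rev]
        have := inv_mem hc.1
        simpa [mul_assoc] using this
      have hout : (Quotient.mk (MulAction.orbitRel (Subgroup.zpowers u) (G ⧸ (R : Subgroup G))) c).out
          = c := by
        obtain ⟨⟨v, hv⟩, hv'⟩ := MulAction.orbitRel_apply.1 (Quotient.mk_out (s :=
          MulAction.orbitRel (Subgroup.zpowers u) (G ⧸ (R : Subgroup G))) c)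
        rw [← hv']
        obtain ⟨n, rfl⟩ := Subgroup.mem_zpowers_iff.1 hv
        show u ^ n • c = c
        exact MulAction.mem_stabilizer_iff.1 (zpow_mem (MulAction.mem_stabilizer_iff.2 hfix) n)
      rw [hout]
      exact ⟨Function.minimalPeriod_eq_one_iff_isFixedPt.2 hfix, hc⟩
    · simp only [hF, Finset.mem_filter, Finset.mem_univ, true_and] at hc
      have hfix : u • c = c := by
        rw [← QuotientGroup.out_eq' c, MulAction.Quotient.smul_mk, QuotientGroup.eq, smul_eq_mul,
          mul_inv_rev]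
        have := inv_mem hc.1
        simpa [mul_assoc] using this
      obtain ⟨⟨v, hv⟩, hv'⟩ := MulAction.orbitRel_apply.1 (Quotient.mk_out (s :=
        MulAction.orbitRel (Subgroup.zpowers u) (G ⧸ (R : Subgroup G))) c)
      show (Quotient.mk _ c).out = c
      rw [← hv']
      obtain ⟨n, rfl⟩ := Subgroup.mem_zpowers_iff.1 hv
      exact MulAction.mem_stabilizer_iff.1 (zpow_mem (MulAction.mem_stabilizer_iff.2 hfix) n)
  -- the parity
  set C := (R : Subgroup G) ⊓ Subgroup.centralizer ({u} : Set G) with hCdef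
  have hmemC : ∀ c : G, c ∈ C ↔ c ∈ (R : Subgroup G) ∧ Commute c u := fun c => by
    rw [hCdef, Subgroup.mem_inf, Subgroup.mem_centralizer_singleton_iff]; exact Iff.rfl
  have hC2 : IsPGroup 2 C := R.2.to_le inf_le_left
  have hCF : ∀ c : C, ∀ q : G ⧸ (R : Subgroup G), q ∈ F → (c : G) • q ∈ F := by
    intro c q hq
    obtain ⟨x, rfl⟩ := QuotientGroup.mk_surjective q
    rw [MulAction.Quotient.smul_mk, smul_eq_mul, hPmem]
    rw [hPmem] at hq
    have e : ((c : G) * x)⁻¹ * u * ((c : G) * x) = x⁻¹ * u * x := by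
      rw [show ((c : G) * x)⁻¹ * u * ((c : G) * x) = x⁻¹ * ((c : G)⁻¹ * (u * c)) * x by group,
        ← ((hmemC _).1 c.2).2.eq, inv_mul_cancel_left]
    show ((c : G) * x)⁻¹ * u * ((c : G) * x) ∈ (R : Subgroup G) ∧ _ ∉ M
    rw [e]
    exact hq
  letI actF : MulAction C {q // q ∈ F} :=
    { smul := fun c q => ⟨(c : G) • q.1, hCF c q.1 q.2⟩
      one_smul := fun q => Subtype.ext (one_smul G q.1)
      mul_smul := fun c d q => Subtype.ext (mul_smul (c : G) (d : G) q.1) }
  have hmod1 := hC2.card_modEq_card_fixedPoints {q // q ∈ F}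
  set X : Finset (G ⧸ (R : Subgroup G)) := F.filter fun q => ∀ c ∈ C, c • q = q with hX
  have hX1 : Nat.card (MulAction.fixedPoints C {q // q ∈ F}) = X.card := by
    rw [← Nat.card_eq_finsetCard]
    refine Nat.card_congr ⟨fun q => ⟨q.1.1, Finset.mem_filter.2 ⟨q.1.2, fun c hc =>
      congrArg Subtype.val (q.2 ⟨c, hc⟩)⟩⟩, fun q => ⟨⟨q.1, (Finset.mem_filter.1 q.2).1⟩, fun c =>
      Subtype.ext ((Finset.mem_filter.1 q.2).2 c c.2)⟩, fun q => rfl, fun q => rfl⟩
  set X0 : Finset (G ⧸ (R : Subgroup G)) :=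
    Finset.univ.filter fun q => ∀ r ∈ (R : Subgroup G), r • q = q with hX0
  have hodd : X0.card % 2 = 1 := by
    have h1 := R.2.card_modEq_card_fixedPoints (G ⧸ (R : Subgroup G))
    have h2 : Nat.card (MulAction.fixedPoints (R : Subgroup G) (G ⧸ (R : Subgroup G))) = X0.card := by
      rw [← Nat.card_eq_finsetCard]
      exact Nat.card_congr ⟨fun q => ⟨q.1, Finset.mem_filter.2 ⟨Finset.mem_univ _, fun r hr =>
        q.2 ⟨r, hr⟩⟩⟩, fun q => ⟨q.1, fun r => (Finset.mem_filter.1 q.2).2 r r.2⟩,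
        fun q => rfl, fun q => rfl⟩
    rw [h2] at h1
    have h3 : ¬ 2 ∣ Nat.card (G ⧸ (R : Subgroup G)) := R.not_dvd_index
    unfold Nat.ModEq at h1
    omega
  have hX0X : X0 ⊆ X := by
    intro q hq
    simp only [hX0, Finset.mem_filter, Finset.mem_univ, true_and] at hq
    refine Finset.mem_filter.2 ⟨?_, fun c hc => hq c ((hmemC c).1 hc).1⟩
    obtain ⟨x, rfl⟩ := QuotientGroup.mk_surjective q
    rw [hPmem]
    have hle : ∀ r ∈ (R : Subgroup G), x⁻¹ * r * x ∈ (R : Subgroup G) := by
      intro r hr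
      have h := hq r hr
      rw [MulAction.Quotient.smul_mk, QuotientGroup.eq, smul_eq_mul, mul_inv_rev] at h
      have := inv_mem h
      simpa [mul_assoc] using this
    have hxN : x⁻¹ ∈ Subgroup.normalizer ((R : Subgroup G) : Set G) := by
      have hmap : (R : Subgroup G).map (MulAut.conj x⁻¹).toMonoidHom = (R : Subgroup G) := by
        refine Subgroup.eq_of_le_of_card_ge ?_
          (Subgroup.card_map_of_injective (MulAut.conj x⁻¹).injective).ge
        rintro _ ⟨r, hr, rfl⟩
        simpa using hle r hr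
      rw [Subgroup.mem_normalizer_iff]
      intro r
      conv_rhs => rw [← hmap]
      exact ⟨fun hr => ⟨r, hr, by simp⟩, fun ⟨s, hs, hse⟩ => by
        rwa [← (MulAut.conj x⁻¹).injective (show MulAut.conj x⁻¹ s = MulAut.conj x⁻¹ r by
          simpa using hse)]⟩
    refine ⟨hle u huR, fun hm => huM ?_⟩
    have h := hN _ hxN u huR
    rw [inv_inv] at h
    have := mul_mem (inv_mem h) hm
    simpa [mul_assoc] using this
  have hrest : ((X \ X0).card : ZMod 2) = 0 := by
    by_cases hall : ∀ r ∈ (R : Subgroup G), Commute r u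
    · have : X \ X0 = ∅ := by
        rw [Finset.sdiff_eq_empty_iff_subset]
        intro q hq
        exact Finset.mem_filter.2 ⟨Finset.mem_univ _, fun r hr =>
          (Finset.mem_filter.1 hq).2 r ((hmemC r).2 ⟨hr, hall r hr⟩)⟩
      simp [this]
    push_neg at hall
    obtain ⟨r, hr, hru⟩ := hall
    have hrr : r * r ∈ C := by
      refine (hmemC _).2 ⟨mul_mem hr hr, ?_⟩
      have := hC r⁻¹ (inv_mem hr) r hr (fun h => hru (by simpa using h.inv_left)) hru
      simpa using this
    have hcr : ∀ c ∈ C, r⁻¹ * c * r ∈ C := by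
      intro c hc
      obtain ⟨hcR, hcu⟩ := (hmemC c).1 hc
      refine (hmemC _).2 ⟨mul_mem (mul_mem (inv_mem hr) hcR) hr, ?_⟩
      rw [show r⁻¹ * c * r = r⁻¹ * c * r⁻¹⁻¹ * c⁻¹ * c by group]
      exact (hcen _ (inv_mem hr) _ hcR u huR).mul_left hcu
    have hmemrest : ∀ q ∈ X \ X0, r • q ∈ X \ X0 := by
      intro q hq
      obtain ⟨hqX, hq0⟩ := Finset.mem_sdiff.1 hq
      obtain ⟨hqF, hqC⟩ := Finset.mem_filter.1 hqX
      refine Finset.mem_sdiff.2 ⟨Finset.mem_filter.2 ⟨?_, fun c hc => ?_⟩, fun h0 => hq0 ?_⟩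
      · obtain ⟨x, rfl⟩ := QuotientGroup.mk_surjective q
        rw [MulAction.Quotient.smul_mk, smul_eq_mul, hPmem]
        rw [hPmem] at hqF
        set d := u⁻¹ * r⁻¹ * (u⁻¹)⁻¹ * (r⁻¹)⁻¹ with hd
        have hdC : d ∈ C := (hmemC d).2 ⟨mul_mem (mul_mem (mul_mem (inv_mem huR) (inv_mem hr))
          (by simpa using huR)) (by simpa using hr), hcen _ (inv_mem huR) _ (inv_mem hr) u huR⟩
        have hdR : x⁻¹ * d * x ∈ (R : Subgroup G) := by
          have h := hqC d hdC
          rw [MulAction.Quotient.smul_mk, QuotientGroup.eq, smul_eq_mul, mul_inv_rev] at h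
          simpa [mul_assoc] using inv_mem h
        have hdM : x⁻¹ * d * x ∈ M := by
          simpa [hd] using hcomm _ (inv_mem huR) _ (inv_mem hr) x⁻¹ (by simpa [hd] using hdR)
        have e : (r * x)⁻¹ * u * (r * x) = (x⁻¹ * u * x) * (x⁻¹ * d * x) := by rw [hd]; group
        show (r * x)⁻¹ * u * (r * x) ∈ (R : Subgroup G) ∧ _ ∉ M
        rw [e]
        refine ⟨mul_mem hqF.1 hdR, fun hm => hqF.2 ?_⟩
        have h := mul_mem hm (inv_mem hdM)
        rwa [mul_inv_cancel_right] at h
      · rw [smul_smul, show c * r = r * (r⁻¹ * c * r) by group, ← smul_smul, hqC _ (hcr c hc)]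
      · simp only [hX0, Finset.mem_filter, Finset.mem_univ, true_and] at h0 ⊢
        have he : r • q = q := by
          have h := h0 r⁻¹ (inv_mem hr)
          rwa [inv_smul_smul, eq_comm] at h
        intro s' hs'
        have h := h0 s' hs'
        rwa [he] at h
    have hsum : ∑ q ∈ X \ X0, (1 : ZMod 2) = 0 := by
      refine Finset.sum_involution (fun q _ => r • q) (fun _ _ => by decide) (fun q hq _ he => ?_)
        hmemrest (fun q hq => ?_)
      · obtain ⟨hqX, hq0⟩ := Finset.mem_sdiff.1 hq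
        refine hq0 (Finset.mem_filter.2 ⟨Finset.mem_univ _, fun s' hs' => ?_⟩)
        by_cases hsu : Commute s' u
        · exact (Finset.mem_filter.1 hqX).2 s' ((hmemC s').2 ⟨hs', hsu⟩)
        · have hc := (Finset.mem_filter.1 hqX).2 (r⁻¹ * s')
            ((hmemC _).2 ⟨mul_mem (inv_mem hr) hs', hC r hr s' hs' hru hsu⟩)
          calc s' • q = r • ((r⁻¹ * s') • q) := by rw [smul_smul, mul_inv_cancel_left]
            _ = q := by rw [hc, he]
      · show r • r • q = q
        rw [smul_smul]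
        exact (Finset.mem_filter.1 (Finset.mem_sdiff.1 hq).1).2 _ hrr
    simpa using hsum
  have hFodd : F.card % 2 = 1 := by
    have h1 : Nat.card {q // q ∈ F} = F.card := Nat.card_eq_finsetCard F
    rw [h1, hX1] at hmod1
    have h2 : 2 ∣ (X \ X0).card := (ZMod.natCast_eq_zero_iff _ _).1 hrest
    have h3 := Finset.card_sdiff_add_card_eq_card hX0X
    unfold Nat.ModEq at hmod1
    omega
  have hVe : V u = e := by
    rw [hVu, ← Nat.div_add_mod F.card 2, hFodd, pow_succ, pow_mul, he2, one_pow, one_mul]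
  refine ⟨V.ker, inferInstance, ?_⟩
  rw [Subgroup.index_ker]
  have hsurj : Function.Surjective V := by
    intro y
    by_cases hy : y = 1
    · exact ⟨1, by rw [map_one, hy]⟩
    · exact ⟨u, by rw [hVe, hval y hy]⟩
  rw [MonoidHom.range_eq_top.2 hsurj, Subgroup.card_top, hA2]

end Cfsg.Agent.ZStarApps
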